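import Mathlib
import Cfsg.Agent.Fisch.TT4

/-!
# Planes of 3-transpositions
-/

set_option autoImplicit false

namespace CF.Fisch

open CF.Leech Cfsg Subgroup

variable {G : Type*} [Group G] {D : Set G}

theorem QCert.H_of_list (C : QCert) (f : ℕ → G) (l : List (ℕ × ℕ × ℕ))
    (hl : allLt l.length (fun n => C.is n (l.getD n (0, 0, 0)).1 (l.getD n (0, 0, 0)).2.1
      (l.getD n (0, 0, 0)).2.2) = true)
    (h : ∀ t ∈ l, QHolds f t.1 t.2.1 t.2.2) : ∀ n < l.length, C.H f n := by
  intro n hn
  have h1 := allLt_iff.1 hl n hn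
  simp only [QCert.is, Bool.and_eq_true, Nat.beq_eq] at h1
  unfold QCert.H
  rw [h1.1, h1.2.1, h1.2.2]
  refine h _ ?_
  rw [List.getD_eq_getElem _ _ hn]
  exact List.getElem_mem hn

theorem QCert.mem_of_defs (C : QCert) {f : ℕ → G} (N : ℕ)
    (hdef : ∀ z, C.ng ≤ z → C.dx z < z → C.dy z < z → f z = f (C.dx z) * f (C.dy z) * f (C.dx z))
    (hchk : allLt (N - C.ng) (fun p => and (Nat.blt (C.dx (Nat.add p C.ng)) (Nat.add p C.ng))
      (Nat.blt (C.dy (Nat.add p C.ng)) (Nat.add p C.ng))) = true)
    (H : Subgroup G) (hH : ∀ i < C.ng, f i ∈ H) : ∀ p < N, f p ∈ H := by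
  intro p
  induction p using Nat.strong_induction_on with
  | _ p ih =>
    intro hp
    by_cases h : p < C.ng
    · exact hH p h
    · have := allLt_iff.1 hchk (p - C.ng) (by omega)
      have e : Nat.add (p - C.ng) C.ng = p := by simp; omega
      simp only [e, Bool.and_eq_true, Nat.blt_eq] at this
      rw [hdef p (not_lt.1 h) this.1 this.2]
      exact H.mul_mem (H.mul_mem (ih _ this.1 (by omega)) (ih _ this.2 (by omega)))
        (ih _ this.1 (by omega))

/-- data -/
def agcD : Tr := .leaf 0x504132120210000000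

/-- data -/
def agcF : Tr := .leaf 0x487a27a72982478386a16a61881368584a34a43683548258708080928028818018638038008285a05780a50a88267807276906960072070347617071575935953773557870027007017737037374914671941977061060436526062665845854764656016006026746046463823562832866053035050015415325052054005025045451721352712755041043014034004404224042024440620242602644213303003030032012002231501001330510533422311200023021020010200

/-- data -/
def agcJ : Tr := .leaf 0xfa08000b7f01800003d8200035ec0600000d80800001e0100011bb8300000760400069d40c00001a8100000398200010f20600000e208000cfa01800003402000006e040006dc60c000019855c806710400a0ce21346a8ac41003115884985c2710400bc4e21201505c424000019010000c310300000620400000000000000000800002f820002d510600000ba080008b701800002882000005014000009e280000160100015e483000004e1400000aa0800065501800002982000264d06000009a09b483224280569e409007c6c81201006902531d19202003c32409000004a0400022900c0000120100000000000000000200000782800000ec5000002182000213506000007428000010010000adf83000003e0400038720c00000e41006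495a090084bb4120020768252132cd02002459a0900000360400010680c00000d0100000000000000000200000622800e1898480000150a00013ae1a000005a080005894180000148a0000028140111748240030e9048016592090000026040000f480c00000901000000000000000002000004028000007c5002028c09003c49812000193a340000070100006cb83000001a14001072c2400000601000038b0300000160400000000000000000800000982000088a060000022280011214480000020a00000031400000042800000301000004483000000114000001208000000000000000010000000020000000040000000080000000000000000000000000000000000000000000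

/-- certificate -/
noncomputable def agc : QCert where
  ng := 3
  allB := false
  dx i := fld (agcD.look 8 7 i) 4 0
  dy i := fld (agcD.look 8 7 i) 4 1
  fx i := fld (agcF.look 12 7 i) 4 0
  fy i := fld (agcF.look 12 7 i) 4 1
  fz i := fld (agcF.look 12 7 i) 4 2
  r i := fld (agcJ.look 35 7 i) 7 0
  ja i := fld (agcJ.look 35 7 i) 7 1
  jb i := fld (agcJ.look 35 7 i) 7 2
  jc i := fld (agcJ.look 35 7 i) 7 3
  jd i := fld (agcJ.look 35 7 i) 7 4

/-- data -/
def agP : Tr := .leaf 0x23ad560e55d016e4a51e6e0fd62cfdbf529886fc4a726c4dede88cfcf8730eeeff5a3ae1d5c366e4f246f7ec1a42618fe5f37dd251538752fc68d7da42e1cb62a22ae631264c05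

/-- index of a point -/
noncomputable def agI (i : ℕ) : ℕ := fld 0x573681420 4 i

theorem agc_chk : allLt (127 - 5) (fun n => agc.chk (Nat.add n 5)) = true := by decide +kernel

theorem agc_tab : allLt 9 (fun p => and (Nat.blt (agI p) 9) (allLt 9 (fun q =>
    and (Nat.blt (agP.look 7 7 (9 * p + q)) 127)
    (agc.is (agP.look 7 7 (9 * p + q)) (agI p) (agI q)
      (agI (3 * ((6 - p / 3 - q / 3) % 3) + (6 - p % 3 - q % 3) % 3) + 2))))) = true := by
  decide +kernel

/-- Three members of `D` with all pairs of the triangle and the third point braiding lie in an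
image of the affine plane of order three. -/
theorem ag_plane (hT : IsThreeTranspositionSet D) (hD : ∀ d ∈ D, ∀ e ∈ D, d * e * d ∈ D)
    {a b c : G} (ha : a ∈ D) (hb : b ∈ D) (hc : c ∈ D) (h1 : a * b * a = b * a * b)
    (h2 : a * c * a = c * a * c) (h3 : b * c * b = c * b * c)
    (h4 : (a * b * a) * c * (a * b * a) = c * (a * b * a) * c) :
    ∃ f : (Fin 2 → ZMod 3) → G, f ![0, 0] = a ∧ f ![1, 0] = b ∧ f ![0, 1] = c ∧ (∀ p, f p ∈ D) ∧
      (∀ p, f p ∈ closure {a, b, c}) ∧ ∀ p q, f p * f q * f p = f (-p - q) := by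
  let s : ℕ → G := fun i => if i = 0 then a else if i = 1 then b else c
  have hs : ∀ i, s i ∈ D := by intro i; simp only [s]; split_ifs <;> assumption
  obtain ⟨f, e1, e2, e3, e4⟩ := agc.sound D (fun d hd => tt_sq hT hd) hD
    (fun d hd e he => tt_cases hT hd he) (fun h => absurd h (by decide)) s hs 5 127 agc_chk
  have f0 : f 0 = a := e1 0 (by decide)
  have f1 : f 1 = b := e1 1 (by decide)
  have f2 : f 2 = c := e1 2 (by decide)
  have f3 : f 3 = a * b * a := by
    have := e3 3 (by decide) (by decide +kernel) (by decide +kernel)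
    rwa [show agc.dx 3 = 0 by decide +kernel, show agc.dy 3 = 1 by decide +kernel, f0, f1] at this
  have e5 := e4 (agc.H_of_list f [(0, 0, 2), (0, 1, 0), (0, 2, 0), (1, 2, 0), (3, 2, 0)]
    (by decide +kernel) (by
      simp only [List.mem_cons, List.not_mem_nil, or_false, forall_eq_or_imp, forall_eq, qholds_B,
        f0, f1, f2, f3]
      exact ⟨qholds_T.2 (q_self (tt_sq hT (e2 0))), h1, h2, h3, h4⟩))
  have hlt : ∀ p : Fin 2 → ZMod 3, 3 * (p 0).val + (p 1).val < 9 := by decide
  refine ⟨fun p => f (agI (3 * (p 0).val + (p 1).val)), ?_, ?_, ?_, fun p => e2 _, fun p => ?_, ?_⟩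
  · rw [← f0]; congr 1
  · rw [← f1]; congr 1
  · rw [← f2]; congr 1
  · have := allLt_iff.1 agc_tab _ (hlt p)
    simp only [Bool.and_eq_true, Nat.blt_eq] at this
    refine agc.mem_of_defs 9 e3 (by decide +kernel) _ (fun i hi => ?_) _ this.1
    have hi' : i < 3 := hi
    interval_cases i
    · rw [f0]; exact subset_closure (by simp)
    · rw [f1]; exact subset_closure (by simp)
    · rw [f2]; exact subset_closure (by simp)
  · intro p q
    have h5 := allLt_iff.1 agc_tab _ (hlt p)
    simp only [Bool.and_eq_true, Nat.blt_eq] at h5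
    have h6 := allLt_iff.1 h5.2 _ (hlt q)
    simp only [Bool.and_eq_true, Nat.blt_eq] at h6
    have h7 := qholds_T.1 (QCert.is_holds h6.2 (e5 _ h6.1))
    have key : ∀ p q : Fin 2 → ZMod 3, 3 * ((6 - (3 * (p 0).val + (p 1).val) / 3 -
        (3 * (q 0).val + (q 1).val) / 3) % 3) + (6 - (3 * (p 0).val + (p 1).val) % 3 -
        (3 * (q 0).val + (q 1).val) % 3) % 3 = 3 * ((-p - q) 0).val + ((-p - q) 1).val := by
      decide
    rw [key] at h7
    exact h7

theorem perm3_ker {φ : Equiv.Perm (Fin 3) →* G}
    (h : φ (Equiv.swap 0 1) ≠ φ (Equiv.swap 1 2)) : Function.Injective φ := by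
  rw [injective_iff_map_eq_one]
  intro g hg
  by_contra hne
  have key : ∀ g : Equiv.Perm (Fin 3), g ≠ 1 → ∃ h k : Equiv.Perm (Fin 3),
      k * (g * h * g⁻¹ * h⁻¹) * k⁻¹ * Equiv.swap 1 2 = Equiv.swap 0 1 := by decide +kernel
  obtain ⟨u, k, e⟩ := key g hne
  apply h
  rw [← e]
  simp [hg]

theorem sym_hom_range {n : ℕ} {φ : Equiv.Perm (Fin (n + 1)) →* G} {f : Fin n → G}
    (hφ : ∀ i : Fin n, φ (Equiv.swap i.castSucc i.succ) = f i) : φ.range = closure (Set.range f) := by
  rw [MonoidHom.range_eq_map, ← (symGen n).gen, MonoidHom.map_closure, ← Set.range_comp]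
  congr 2
  ext i
  exact hφ i

theorem exists_S3_hom {a b : G} (ha : a * a = 1) (hb : b * b = 1) (hab : a * b * a = b * a * b) :
    ∃ φ : Equiv.Perm (Fin 3) →* G, φ (Equiv.swap 0 1) = a ∧ φ (Equiv.swap 1 2) = b ∧
      φ.range = closure {a, b} := by
  obtain ⟨φ, hφ⟩ := sym_exists_hom 2 ![a, b] (by
      intro i; fin_cases i <;> simpa) (by
      intro i j h; fin_cases i <;> fin_cases j <;> simp_all) (by
      intro i j h; fin_cases i <;> fin_cases j <;> simp_all)
  refine ⟨φ, hφ 0, hφ 1, ?_⟩
  rw [sym_hom_range hφ]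
  congr 1
  ext x
  simp [eq_comm, or_comm]

theorem sym_ker {n : ℕ} (hn : 5 ≤ n) {φ : Equiv.Perm (Fin n) →* G} {x y z w : Fin n} (hxy : x ≠ y)
    (hzw : z ≠ w) (h : φ (Equiv.swap x y) ≠ φ (Equiv.swap z w)) : Function.Injective φ := by
  rw [← MonoidHom.ker_eq_bot_iff]
  by_contra hne
  have : Nontrivial φ.ker := (Subgroup.nontrivial_iff_ne_bot _).2 hne
  have h1 := Equiv.Perm.alternatingGroup_le_of_normal (N := φ.ker) (by simpa using hn) inferInstance
  have h2 : (Equiv.swap x y)⁻¹ * Equiv.swap z w ∈ alternatingGroup (Fin n) := by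
    simp [Equiv.Perm.mem_alternatingGroup, Equiv.Perm.sign_swap hxy, Equiv.Perm.sign_swap hzw]
  have h3 := h1 h2
  rw [MonoidHom.mem_ker, map_mul, map_inv, inv_mul_eq_one] at h3
  exact h h3

end CF.Fisch
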